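import Cfsg.Agent.H1.Semidirect

/-! Group ring identities for a group `FH` with `H` semiregular on `F` acting on an abelian group
on which `F` has no fixed points. -/

set_option autoImplicit false

open Subgroup

namespace Cfsg.Agent.P11

variable {A V : Type*} [Group A] [CommGroup V]

/-- The norm map of a subgroup `B` of the acting group. -/
noncomputable def nm [Finite A] (α : A →* MulAut V) (B : Subgroup A) : V →* V :=
  letI := Fintype.ofFinite B
  { toFun := fun v => ∏ b : B, α b v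
    map_one' := by simp
    map_mul' := fun v w => by simp [Finset.prod_mul_distrib] }

theorem nm_eq [Finite A] (α : A →* MulAut V) (B : Subgroup A) [Fintype B] (v : V) :
    nm α B v = ∏ b : B, α b v := by
  unfold nm
  simp only [MonoidHom.coe_mk, OneHom.coe_mk]
  congr!

theorem nm_fix [Finite A] (α : A →* MulAut V) {B : Subgroup A} {b : A} (hb : b ∈ B) (v : V) :
    α b (nm α B v) = nm α B v := by
  letI := Fintype.ofFinite B
  rw [nm_eq, map_prod]
  refine Fintype.prod_equiv (Equiv.mulLeft (⟨b, hb⟩ : B)) _ _ fun c => ?_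
  simp

theorem nm_mem [Finite A] (α : A →* MulAut V) {B : Subgroup A} {W : Subgroup V}
    (hW : ∀ b ∈ B, ∀ w ∈ W, α b w ∈ W) {w : V} (hw : w ∈ W) : nm α B w ∈ W := by
  letI := Fintype.ofFinite B
  rw [nm_eq]
  exact W.prod_mem fun b _ => hW b b.2 w hw

theorem nm_of_fix [Finite A] (α : A →* MulAut V) {B : Subgroup A} {w : V}
    (hw : ∀ b ∈ B, α b w = w) : nm α B w = w ^ Nat.card B := by
  letI := Fintype.ofFinite B
  rw [nm_eq, Finset.prod_congr rfl fun (b : B) _ => hw b b.2]
  simp

theorem nm_eq_one [Finite A] (α : A →* MulAut V) {B : Subgroup A} {W : Subgroup V}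
    (hW : ∀ b ∈ B, ∀ w ∈ W, α b w ∈ W) (h1 : ∀ w ∈ W, (∀ b ∈ B, α b w = w) → w = 1) {w : V}
    (hw : w ∈ W) : nm α B w = 1 :=
  h1 _ (nm_mem α hW hw) fun _ hb => nm_fix α hb w

/-- `H` normalizes `F` and acts semiregularly on the nonidentity elements of `F`. -/
structure SR (F H : Subgroup A) : Prop where
  conj : ∀ h ∈ H, ∀ f ∈ F, h * f * h⁻¹ ∈ F
  fpf : ∀ h ∈ H, h ≠ 1 → ∀ f ∈ F, h * f = f * h → f = 1

theorem SR.mono {F H F' H' : Subgroup A} (h : SR F H) (hF : F' ≤ F) (hH : H' ≤ H)
    (hc : ∀ h ∈ H', ∀ f ∈ F', h * f * h⁻¹ ∈ F') : SR F' H' :=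
  ⟨hc, fun x hx h1 f hf => h.fpf x (hH hx) h1 f (hF hf)⟩

/-- Identity (b). -/
theorem prod_conj_nm [Finite A] (α : A →* MulAut V) {F H : Subgroup A} [Fintype F] (h : SR F H)
    {W : Subgroup V} (hF : ∀ b ∈ F, ∀ w ∈ W, α b w ∈ W) (hH : ∀ b ∈ H, ∀ w ∈ W, α b w ∈ W)
    (h1 : ∀ w ∈ W, (∀ b ∈ F, α b w = w) → w = 1) {w : V} (hw : w ∈ W) :
    ∏ f : F, α f (nm α H (α (f : A)⁻¹ w)) = w ^ Nat.card F := by
  classical
  letI := Fintype.ofFinite H
  simp only [nm_eq, map_prod]
  rw [Finset.prod_comm, Fintype.prod_eq_single (1 : H)]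
  · simp
  · intro x hx
    have hx1 : (x : A) ≠ 1 := fun e => hx (Subtype.ext e)
    let g : F → F := fun f => ⟨f * (x * (f : A)⁻¹ * (x : A)⁻¹),
      F.mul_mem f.2 (h.conj x x.2 _ (F.inv_mem f.2))⟩
    have hg : Function.Injective g := by
      intro f f' e
      have e' : (f : A) * (x * (f : A)⁻¹ * (x : A)⁻¹) = f' * (x * (f' : A)⁻¹ * (x : A)⁻¹) :=
        congrArg Subtype.val e
      have := h.fpf x x.2 hx1 ((f' : A)⁻¹ * f) (F.mul_mem (F.inv_mem f'.2) f.2) (by
        calc (x : A) * ((f' : A)⁻¹ * f)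
            = (f' : A)⁻¹ * (f' * (x * (f' : A)⁻¹ * (x : A)⁻¹)) * x * f := by group
          _ = (f' : A)⁻¹ * f * x := by rw [← e']; group)
      rw [inv_mul_eq_one] at this
      exact Subtype.ext this.symm
    have := nm_eq_one α hF h1 (hH x x.2 w hw)
    rw [nm_eq] at this
    rw [← this]
    refine Fintype.prod_bijective g (Finite.injective_iff_bijective.mp hg) _ _ fun f => ?_
    simp [g]

/-- The first cohomology of `B` on `V` vanishes. -/
def H1Zero (α : A →* MulAut V) (B : Subgroup A) : Prop :=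
  ∀ z : B → V, (∀ b c : B, z (b * c) = z b * α b (z c)) → ∃ v : V, ∀ b : B, z b * α b v = v

theorem h1Zero_of_theta (α : A →* MulAut V) {B : Subgroup A} [Fintype B] (θ : V →* V)
    (hθ : ∀ v, ∏ b : B, α b (θ (α (b : A)⁻¹ v)) = v) : H1Zero α B := by
  intro z hz
  refine ⟨∏ k : B, α k (θ (α (k : A)⁻¹ (z k))), fun b => ?_⟩
  rw [map_prod]
  conv_lhs => rw [← hθ (z b)]
  rw [← Equiv.prod_comp (Equiv.mulLeft b) fun k : B => α k (θ (α (k : A)⁻¹ (z b))),
    ← Finset.prod_mul_distrib]
  symm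
  rw [← Equiv.prod_comp (Equiv.mulLeft b)]
  refine Finset.prod_congr rfl fun k _ => ?_
  simp [hz]

theorem h1Zero_of_coprime [Finite A] [Finite V] (α : A →* MulAut V) {B : Subgroup A}
    (h : (Nat.card V).Coprime (Nat.card B)) : H1Zero α B := by
  letI := Fintype.ofFinite B
  obtain ⟨m, hm⟩ : ∃ m : ℕ, ∀ v : V, (v ^ m) ^ Nat.card B = v := by
    by_cases h1 : Nat.card V = 1
    · haveI := (Nat.card_eq_one_iff_unique.mp h1).1
      exact ⟨0, fun v => Subsingleton.elim _ _⟩
    obtain ⟨m, -, hm⟩ := Nat.exists_mul_mod_eq_one_of_coprime h.symm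
      (lt_of_le_of_ne Nat.card_pos (Ne.symm h1))
    refine ⟨m, fun v => ?_⟩
    rw [← pow_mul, mul_comm, ← pow_mod_natCard, hm, pow_one]
  refine h1Zero_of_theta α (powMonoidHom m) fun v => ?_
  simpa using hm v

/-- Identity (a). -/
theorem h1Zero_of_sr [Finite A] (α : A →* MulAut V) {F H : Subgroup A} (h : SR F H)
    (h1 : ∀ w, (∀ b ∈ F, α b w = w) → w = 1) : H1Zero α H := by
  classical
  letI := Fintype.ofFinite H
  letI := Fintype.ofFinite F
  let φ : H →* MulAut F :=
    { toFun := fun x =>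
        { toFun := fun f => ⟨x * f * (x : A)⁻¹, h.conj x x.2 f f.2⟩
          invFun := fun f => ⟨(x : A)⁻¹ * f * (x : A)⁻¹⁻¹, h.conj _ (H.inv_mem x.2) f f.2⟩
          left_inv := fun f => by ext; simp [mul_assoc]
          right_inv := fun f => by ext; simp [mul_assoc]
          map_mul' := fun f g => by ext; simp [mul_assoc] }
      map_one' := by ext; simp
      map_mul' := fun x y => by ext; simp [mul_assoc] }
  letI : MulAction H F := MulAction.compHom F φ
  have hsm : ∀ (x : H) (f : F), ((x • f : F) : A) = x * f * (x : A)⁻¹ := fun _ _ => rfl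
  let R : Finset F := Finset.univ.filter fun f =>
    f ≠ 1 ∧ (Quotient.mk (MulAction.orbitRel H F) f).out = f
  let θ : V →* V :=
    { toFun := fun v => (∏ f ∈ R, α f v)⁻¹
      map_one' := by simp
      map_mul' := fun v w => by simp [Finset.prod_mul_distrib, mul_comm] }
  refine h1Zero_of_theta α θ fun v => ?_
  have e1 : ∏ b : H, α b (θ (α (b : A)⁻¹ v)) =
      (∏ p ∈ (Finset.univ : Finset H) ×ˢ R, α ((p.1 • p.2 : F) : A) v)⁻¹ := by
    rw [Finset.prod_product, ← Finset.prod_inv_distrib]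
    refine Finset.prod_congr rfl fun b _ => ?_
    simp [θ, hsm]
  have e2 : ∏ p ∈ (Finset.univ : Finset H) ×ˢ R, α ((p.1 • p.2 : F) : A) v =
      ∏ f ∈ Finset.univ.erase (1 : F), α (f : A) v := by
    refine Finset.prod_bij (fun p _ => p.1 • p.2) ?_ ?_ ?_ fun _ _ => rfl
    · intro p hp
      simp only [Finset.mem_product, Finset.mem_univ, true_and, R, Finset.mem_filter] at hp
      simp only [Finset.mem_erase, Finset.mem_univ, and_true]
      intro e
      apply hp.1
      have := congrArg Subtype.val e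
      rw [hsm] at this
      ext
      simpa [mul_inv_eq_one] using this
    · intro p hp q hq e
      simp only [Finset.mem_product, Finset.mem_univ, true_and, R, Finset.mem_filter] at hp hq
      have e3 : p.2 = q.2 := by
        rw [← hp.2, ← hq.2]
        congr 1
        apply Quotient.sound
        exact ⟨p.1⁻¹ * q.1, by simp [mul_smul, ← e]⟩
      have e4 : p.1 = q.1 := by
        by_contra hne
        apply hp.1
        have := congrArg Subtype.val e
        rw [hsm, hsm, ← e3] at this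
        ext
        refine h.fpf ((q.1 : A)⁻¹ * p.1) (H.mul_mem (H.inv_mem q.1.2) p.1.2)
          (fun e5 => hne (Subtype.ext (inv_mul_eq_one.mp e5).symm)) _ p.2.2 ?_
        calc (q.1 : A)⁻¹ * p.1 * p.2 = (q.1 : A)⁻¹ * (p.1 * p.2 * (p.1 : A)⁻¹) * p.1 := by group
          _ = p.2 * ((q.1 : A)⁻¹ * p.1) := by rw [this]; group
      exact Prod.ext e4 e3
    · intro f hf
      simp only [Finset.mem_erase, Finset.mem_univ, and_true] at hf
      obtain ⟨x, hx⟩ : (MulAction.orbitRel H F) f (Quotient.mk (MulAction.orbitRel H F) f).out :=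
        Quotient.exact (Quotient.out_eq _).symm
      refine ⟨(x, (Quotient.mk (MulAction.orbitRel H F) f).out), ?_, hx⟩
      simp only [Finset.mem_product, Finset.mem_univ, true_and, R, Finset.mem_filter,
        Quotient.out_eq, and_true]
      intro e
      apply hf
      rw [← hx, e]
      ext
      simp [hsm]
  have e3 := nm_eq_one α (W := ⊤) (B := F) (fun _ _ _ _ => trivial) (fun w _ => h1 w)
    (mem_top v)
  rw [nm_eq, ← Finset.mul_prod_erase _ _ (Finset.mem_univ (1 : F))] at e3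
  rw [e1, e2, eq_comm, eq_inv_iff_mul_eq_one]
  simpa using e3

end Cfsg.Agent.P11
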