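import Cfsg.Agent.P11.Alg

/-! The Clifford type argument: if `C_U(H)` centralizes `C_V(H)` then `U` has a fixed point. -/

set_option autoImplicit false

open Subgroup

namespace Cfsg.Agent.P11

variable {A V U : Type*} [Group A] [CommGroup V] [CommGroup U]

theorem eq_one_of_pow_coprime {M : Type*} [Group M] {n : ℕ} (h : (Nat.card M).Coprime n) {x : M}
    (hx : x ^ n = 1) : x = 1 :=
  (powCoprime h).injective (by simpa using hx)

theorem mem_of_pow_mem_coprime {M : Type*} [Group M] {n : ℕ} (h : (Nat.card M).Coprime n)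
    {K : Subgroup M} {x : M} (hx : x ^ n ∈ K) : x ∈ K := by
  obtain ⟨m, hm⟩ := exists_pow_eq_self_of_coprime
    ((Nat.Coprime.coprime_dvd_left (orderOf_dvd_natCard x) h).symm)
  rw [← hm]
  exact K.pow_mem hx m

/-- `K` is maximal among the subgroups of `U` with a nontrivial fixed point on `V`. -/
def MaxFix (σ : U →* MulAut V) (K : Subgroup U) : Prop :=
  (∃ v : V, v ≠ 1 ∧ ∀ k ∈ K, σ k v = v) ∧
    ∀ v : V, (∀ k ∈ K, σ k v = v) → ∀ u, u ∉ K → σ u v = v → v = 1

theorem exists_maxFix [Finite U] [Nontrivial V] (σ : U →* MulAut V) : ∃ K, MaxFix σ K := by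
  obtain ⟨K, hK⟩ := Finite.exists_le_maximal
    (p := fun K : Subgroup U => ∃ v : V, v ≠ 1 ∧ ∀ k ∈ K, σ k v = v) (a := ⊥) (by
      obtain ⟨v, hv⟩ := exists_ne (1 : V)
      exact ⟨v, hv, fun k hk => by simp [mem_bot.mp hk]⟩)
  refine ⟨K, hK.2.prop, fun v hv u hu huv => ?_⟩
  by_contra h1
  let S : Subgroup U := (MulAction.stabilizer (MulAut V) v).comap σ
  have := hK.2.le_of_ge (y := S) ⟨v, h1, fun k hk => hk⟩ fun k hk => hv k hk
  exact hu (this huv)

theorem MaxFix.map {α : A →* MulAut V} {β : A →* MulAut U} {σ : U →* MulAut V}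
    (hc : ∀ a u v, α a (σ u v) = σ (β a u) (α a v)) {K : Subgroup U} (hK : MaxFix σ K) (a : A) :
    MaxFix σ (K.comap (β a).toMonoidHom) := by
  have hc' : ∀ u v, σ u (α a⁻¹ v) = α a⁻¹ (σ (β a u) v) := fun u v => by rw [hc]; simp
  refine ⟨?_, fun v hv u hu huv => ?_⟩
  · obtain ⟨v, h1, hv⟩ := hK.1
    exact ⟨α a⁻¹ v, by simpa using h1, fun k hk => by rw [hc', hv (β a k) hk]⟩
  · have := hK.2 (α a v) (fun k hk => by
      have := hv (β a⁻¹ k) (by simpa using hk)
      conv_rhs => rw [← this, hc]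
      simp) (β a u) hu (by rw [← hc, huv])
    simpa using this

theorem MaxFix.mem [Finite A] [Finite V] [Finite U] {α : A →* MulAut V} {β : A →* MulAut U}
    {σ : U →* MulAut V} (hc : ∀ a u v, α a (σ u v) = σ (β a u) (α a v)) {F H : Subgroup A}
    (h : SR F H) (hFV : (Nat.card V).Coprime (Nat.card F))
    (hUV : (Nat.card V).Coprime (Nat.card U)) (h1 : ∀ w, (∀ b ∈ F, α b w = w) → w = 1)
    {K : Subgroup U} (hK : MaxFix σ K) {u : U} (hu : ∀ v, (∀ b ∈ H, α b v = v) → σ u v = v) :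
    u ∈ K := by
  classical
  by_contra huK
  let W : Subgroup V := H1.fixedSub σ K
  have hW : ∀ {w}, w ∈ W ↔ ∀ k ∈ K, σ k w = w := H1.mem_fixedSub
  let S : Subgroup A :=
    { carrier := {a | ∀ k ∈ K, β a k ∈ K}
      one_mem' := fun k hk => by simpa using hk
      mul_mem' := fun {a b} ha hb k hk => by simpa using ha _ (hb k hk)
      inv_mem' := fun {a} ha k hk => by
        have hinj : Function.Injective fun k : K => (⟨β a k, ha k k.2⟩ : K) := fun x y e =>
          Subtype.ext ((β a).injective (congrArg Subtype.val e))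
        obtain ⟨k', hk'⟩ := Finite.injective_iff_surjective.mp hinj ⟨k, hk⟩
        have : β a k' = k := congrArg Subtype.val hk'
        rw [← this]
        simp }
  have hS : ∀ {a}, a ∈ S ↔ ∀ k ∈ K, β a k ∈ K := Iff.rfl
  have hSW : ∀ a ∈ S, ∀ w ∈ W, α a w ∈ W := by
    intro a ha w hw
    rw [hW] at hw ⊢
    intro k hk
    have := hw _ (hS.mp (S.inv_mem ha) k hk)
    conv_rhs => rw [← this, hc]
    simp
  have hcomm : ∀ x v, σ x (nm σ K v) = nm σ K (σ x v) := by
    intro x v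
    letI := Fintype.ofFinite K
    simp only [nm_eq, map_prod]
    refine Finset.prod_congr rfl fun k _ => ?_
    rw [← MulAut.mul_apply, ← MulAut.mul_apply, ← map_mul, ← map_mul, mul_comm]
  have hout : ∀ a, a ∉ S → ∀ w ∈ W, nm σ K (α a w) = 1 := by
    intro a ha w hw
    rw [hS] at ha
    push Not at ha
    obtain ⟨k, hk, hk'⟩ := ha
    refine hK.2 _ (fun k hk => nm_fix σ hk _) _ hk' ?_
    rw [hcomm, ← hc, hW.mp hw k hk]
  have hnm : ∀ B : Subgroup A, ∀ w ∈ W, nm σ K (nm α B w) = nm α (B ⊓ S) w ^ Nat.card K := by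
    intro B w hw
    letI := Fintype.ofFinite B
    letI := Fintype.ofFinite (B ⊓ S : Subgroup A)
    rw [← nm_of_fix σ (hW.mp (nm_mem α (B := B ⊓ S) (fun b hb => hSW b hb.2) hw)), nm_eq α, nm_eq α, map_prod,
      map_prod, ← Finset.prod_subset (Finset.subset_univ (Finset.univ.filter fun b : B => (b : A) ∈ S))]
    · refine Finset.prod_bij (fun b hb => ⟨b, b.2, (Finset.mem_filter.mp hb).2⟩) (by simp) ?_ ?_
        fun _ _ => rfl
      · intro b _ c _ e
        exact Subtype.ext (congrArg Subtype.val e :)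
      · intro b _
        exact ⟨⟨b, b.2.1⟩, Finset.mem_filter.mpr ⟨Finset.mem_univ _, b.2.2⟩, rfl⟩
    · intro b _ hb
      exact hout b (by simpa using hb) w hw
  have hKV : (Nat.card V).Coprime (Nat.card K) :=
    Nat.Coprime.coprime_dvd_right (card_subgroup_dvd_card K) hUV
  have hF1 : (Nat.card V).Coprime (Nat.card (F ⊓ S : Subgroup A)) :=
    Nat.Coprime.coprime_dvd_right (card_dvd_of_le inf_le_left) hFV
  have h2 : ∀ w ∈ W, (∀ b ∈ F ⊓ S, α b w = w) → w = 1 := by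
    intro w hw hfix
    have := hnm F w hw
    rw [nm_eq_one α (W := ⊤) (fun _ _ _ _ => trivial) (fun w _ => h1 w) (mem_top w), map_one,
      nm_of_fix α hfix] at this
    exact eq_one_of_pow_coprime hF1 (eq_one_of_pow_coprime hKV this.symm)
  have hsr : SR (F ⊓ S) (H ⊓ S) := h.mono inf_le_left inf_le_left fun x hx f hf =>
    ⟨h.conj x hx.1 f hf.1, S.mul_mem (S.mul_mem hx.2 hf.2) (S.inv_mem hx.2)⟩
  have h3 : ∀ w ∈ W, nm α (H ⊓ S) w = 1 := by
    intro w hw
    refine eq_one_of_pow_coprime hKV ?_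
    rw [← hnm H w hw]
    refine hK.2 _ (fun k hk => nm_fix σ hk _) u huK ?_
    rw [hcomm, hu _ fun b hb => nm_fix α hb w]
  obtain ⟨w, hw1, hw⟩ := hK.1
  apply hw1
  letI := Fintype.ofFinite (F ⊓ S : Subgroup A)
  refine eq_one_of_pow_coprime hF1 ?_
  rw [← prod_conj_nm α hsr (fun b hb => hSW b hb.2) (fun b hb => hSW b hb.2) h2 (hW.mpr hw)]
  refine Finset.prod_eq_one fun f _ => ?_
  rw [h3 _ (hSW _ (S.inv_mem f.2.2) _ (hW.mpr hw)), map_one]

theorem exists_fixed [Finite A] [Finite V] [Finite U] [Nontrivial V] {α : A →* MulAut V}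
    {β : A →* MulAut U} {σ : U →* MulAut V} (hc : ∀ a u v, α a (σ u v) = σ (β a u) (α a v))
    {F₁ F₂ H : Subgroup A} (hs₁ : SR F₁ H) (hs₂ : SR F₂ H)
    (hFV : (Nat.card V).Coprime (Nat.card F₁)) (hFU : (Nat.card U).Coprime (Nat.card F₂))
    (hUV : (Nat.card V).Coprime (Nat.card U)) (h1 : ∀ w, (∀ b ∈ F₁, α b w = w) → w = 1)
    (h2 : ∀ w, (∀ b ∈ F₂, β b w = w) → w = 1)
    (hu : ∀ u, (∀ b ∈ H, β b u = u) → ∀ v, (∀ b ∈ H, α b v = v) → σ u v = v) :
    ∃ v : V, v ≠ 1 ∧ ∀ u, σ u v = v := by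
  obtain ⟨K, hK⟩ := exists_maxFix σ
  obtain ⟨v, hv1, hv⟩ := hK.1
  refine ⟨v, hv1, fun u => hv u ?_⟩
  letI := Fintype.ofFinite F₂
  refine mem_of_pow_mem_coprime hFU ?_
  rw [← prod_conj_nm β hs₂ (W := ⊤) (fun _ _ _ _ => trivial) (fun _ _ _ _ => trivial)
    (fun w _ => h2 w) (mem_top u)]
  refine K.prod_mem fun f _ => ?_
  exact (hK.map hc f).mem hc hs₁ hFV hUV h1 (hu _ fun b hb => nm_fix β hb _)

end Cfsg.Agent.P11
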