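import Cfsg.Agent.P11.Alg2
import Cfsg.Agent.H1.Small
import Cfsg.Agent.H9.FrobAction
import Cfsg.Agent.H8.PComplement
import Cfsg.Agent.L.Cores

/-! Passing to invariant subgroups and to quotients by invariant abelian `p`-subgroups. -/

set_option autoImplicit false

open Subgroup Cfsg Cfsg.Agent
open scoped IsMulCommutative

namespace Cfsg.Agent.P11

variable {A G : Type*} [Group A] [Group G]

theorem exists_parts [Finite A] (F : Subgroup A) [F.Normal] (hF : Group.IsNilpotent F) (p : ℕ)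
    [hp : Fact p.Prime] : ∃ P Q : Subgroup A, P.Normal ∧ Q.Normal ∧ P ≤ F ∧ Q ≤ F ∧
      IsPGroup p P ∧ (Nat.card Q).Coprime p ∧ (∀ f ∈ F, ∀ k, orderOf f = p ^ k → f ∈ P) ∧
      ∀ f ∈ F, ∃ x ∈ P, ∃ y ∈ Q, f = x * y := by
  haveI := L.pCore_characteristic (G := F) hp.out
  haveI := L.pPrimeCore_characteristic (G := F) hp.out
  have hP : ∀ f ∈ F, ∀ k, orderOf f = p ^ k → f ∈ (pCore p F).map F.subtype := by
    intro f hf k hk
    refine ⟨⟨f, hf⟩, L.mem_pCore_iff.mpr fun P => ?_, rfl⟩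
    have hk' : orderOf (⟨f, hf⟩ : F) = p ^ k := by rw [← hk, ← orderOf_coe]
    obtain ⟨R, hR⟩ := (H8.isPGroup_zpowers_of_orderOf hk').exists_le_sylow
    haveI : (R : Subgroup F).Normal := inferInstance
    haveI := Sylow.unique_of_normal R this
    rw [Subsingleton.elim P R]
    exact hR (mem_zpowers _)
  refine ⟨(pCore p F).map F.subtype, (pPrimeCore p F).map F.subtype, inferInstance, inferInstance,
    map_subtype_le _, map_subtype_le _, (L.isPGroup_pCore p).map _,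
    by rw [card_map_of_injective F.subtype_injective]; exact L.coprime_card_pPrimeCore p, hP,
    fun f hf => ?_⟩
  obtain ⟨a, b, ha, hb, e, -, ⟨k, hk⟩, hc⟩ := H8.exists_pPart_pPrimePart hp.out f
  have ha' : a ∈ F := (zpowers_le.mpr hf) ha
  have hb' : b ∈ F := (zpowers_le.mpr hf) hb
  refine ⟨a, hP a ha' k hk, b, ⟨⟨b, hb'⟩, ?_, rfl⟩, e⟩
  exact H8.hasNPC_iff_forall_mem_pPrimeCore.mp (H8.hasNPC_of_isNilpotent p) _
    (by rw [← orderOf_coe]; exact hc)

/-- `N` is invariant under the action. -/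
def Inv (φ : A →* MulAut G) (N : Subgroup G) : Prop := ∀ a, ∀ x ∈ N, φ a x ∈ N

theorem inv_fixedSub (φ : A →* MulAut G) (B : Subgroup A) [hB : B.Normal] :
    Inv φ (H1.fixedSub φ B) := by
  intro a x hx
  rw [H1.mem_fixedSub] at hx ⊢
  intro b hb
  have := hx _ (hB.conj_mem' b hb a)
  conv_rhs => rw [← this]
  simp

theorem card_modEq_fixedSub [Finite G] (φ : A →* MulAut G) {p : ℕ} [Fact p.Prime] {P : Subgroup A}
    (hP : IsPGroup p P) : Nat.card G ≡ Nat.card (H1.fixedSub φ P) [MOD p] := by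
  letI : MulAction P G := MulAction.compHom G (φ.comp P.subtype)
  have := hP.card_modEq_card_fixedPoints G
  convert this using 1
  refine Nat.card_congr (Equiv.subtypeEquivRight fun x => ?_)
  rw [H1.mem_fixedSub, MulAction.mem_fixedPoints]
  exact ⟨fun h b => h b b.2, fun h b hb => h ⟨b, hb⟩⟩

theorem not_dvd_card_fixedSub [Finite G] (φ : A →* MulAut G) {p : ℕ} [hp : Fact p.Prime]
    {F P Q : Subgroup A} [Q.Normal] (hP : IsPGroup p P) (hF : ∀ f ∈ F, ∃ x ∈ P, ∃ y ∈ Q, f = x * y)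
    (h1 : ∀ g, (∀ f ∈ F, φ f g = g) → g = 1) : ¬ p ∣ Nat.card (H1.fixedSub φ Q) := by
  have := card_modEq_fixedSub (H9.restrictAut φ _ (inv_fixedSub φ Q)) hP
  have h2 : H1.fixedSub (H9.restrictAut φ _ (inv_fixedSub φ Q)) P = ⊥ := by
    rw [eq_bot_iff]
    intro x hx
    rw [H1.mem_fixedSub] at hx
    refine Subtype.ext (h1 _ fun f hf => ?_)
    obtain ⟨a, ha, b, hb, rfl⟩ := hF f hf
    rw [map_mul, MulAut.mul_apply, H1.mem_fixedSub.mp x.2 b hb]
    exact congrArg Subtype.val (hx a ha)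
  rw [h2, card_bot] at this
  intro hd
  exact hp.out.one_lt.ne' (Nat.eq_one_of_dvd_one ((this.dvd_iff dvd_rfl).mp hd))

theorem fix_part [Finite G] (φ : A →* MulAut G) {p : ℕ} [hp : Fact p.Prime] (hG : IsPGroup p G)
    {F P Q : Subgroup A} [Q.Normal] (hP : IsPGroup p P) (hF : ∀ f ∈ F, ∃ x ∈ P, ∃ y ∈ Q, f = x * y)
    (h1 : ∀ g, (∀ f ∈ F, φ f g = g) → g = 1) (g : G) (hg : ∀ f ∈ Q, φ f g = g) : g = 1 := by
  have h2 := not_dvd_card_fixedSub φ hP hF h1
  have h3 : H1.fixedSub φ Q = ⊥ := by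
    rcases (hG.to_subgroup (H1.fixedSub φ Q)).card_eq_or_dvd with h | h
    · exact card_eq_one.mp h
    · exact absurd h h2
  have : g ∈ H1.fixedSub φ Q := H1.mem_fixedSub.mpr hg
  rwa [h3] at this

/-- The hypotheses on the action. -/
structure Hyp (F H : Subgroup A) (φ : A →* MulAut G) : Prop where
  fix : ∀ g, (∀ f ∈ F, φ f g = g) → g = 1
  nil : Group.IsNilpotent (H1.fixedSub φ H)

variable {F H : Subgroup A} {φ : A →* MulAut G}

theorem Hyp.restrict (h : Hyp F H φ) {N : Subgroup G} (hN : Inv φ N) :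
    Hyp F H (H9.restrictAut φ N hN) := by
  refine ⟨fun g hg => Subtype.ext (h.fix _ fun f hf => congrArg Subtype.val (hg f hf)), ?_⟩
  haveI := h.nil
  let f : H1.fixedSub (H9.restrictAut φ N hN) H →* H1.fixedSub φ H :=
    (N.subtype.comp (Subgroup.subtype _)).codRestrict _ fun x =>
      H1.mem_fixedSub.mpr fun b hb => congrArg Subtype.val (H1.mem_fixedSub.mp x.2 b hb)
  exact nilpotent_of_mulEquiv (MonoidHom.ofInjective (f := f) fun x y e =>
    Subtype.ext (Subtype.ext (congrArg Subtype.val e :))).symm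

theorem cover {V : Subgroup G} [IsMulCommutative V] (hV : Inv φ V) {B : Subgroup A}
    (h : H1Zero (H9.restrictAut φ V hV) B) {g : G} (hg : ∀ b ∈ B, g⁻¹ * φ b g ∈ V) :
    ∃ v ∈ V, ∀ b ∈ B, φ b (g * v) = g * v := by
  obtain ⟨v, hv⟩ := h (fun b => ⟨g⁻¹ * φ b g, hg b b.2⟩) fun b c => by
    ext
    change g⁻¹ * φ (b * c) g = g⁻¹ * φ b g * φ b (g⁻¹ * φ c g)
    simp [mul_assoc]
  refine ⟨v, v.2, fun b hb => ?_⟩
  have : g⁻¹ * φ b g * φ b v = v := congrArg Subtype.val (hv ⟨b, hb⟩)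
  rw [map_mul, ← this]
  conv_lhs => rw [this]
  group

theorem Hyp.cover [Finite A] (h : Hyp F H φ) (hs : SR F H) {V : Subgroup G} [V.Normal]
    [IsMulCommutative V] (hV : Inv φ V) {x : G ⧸ V} (hx : ∀ b ∈ H, H1.quotAct φ V hV b x = x) :
    ∃ g : G, (g : G ⧸ V) = x ∧ ∀ b ∈ H, φ b g = g := by
  obtain ⟨g, rfl⟩ := QuotientGroup.mk_surjective x
  obtain ⟨v, hv, hgv⟩ := P11.cover hV (h1Zero_of_sr _ hs (h.restrict hV).fix) (g := g)
    fun b hb => QuotientGroup.eq.mp (hx b hb).symm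
  exact ⟨g * v, QuotientGroup.mk_mul_of_mem g hv, hgv⟩

theorem Hyp.quot [Finite A] [Finite G] [F.Normal] (hF : Group.IsNilpotent F) (h : Hyp F H φ)
    (hs : SR F H) {V : Subgroup G} [V.Normal] [IsMulCommutative V] (hV : Inv φ V) {p : ℕ}
    [hp : Fact p.Prime] (hVp : IsPGroup p V) : Hyp F H (H1.quotAct φ V hV) := by
  constructor
  · intro x hx
    obtain ⟨g, rfl⟩ := QuotientGroup.mk_surjective x
    obtain ⟨P, Q, hPn, hQn, hPF, hQF, hP, hQ, -, hPQ⟩ := exists_parts F hF p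
    have hcop : (Nat.card V).Coprime (Nat.card Q) := by
      obtain ⟨n, hn⟩ := IsPGroup.iff_card.mp hVp
      rw [hn]
      exact hQ.symm.pow_left n
    obtain ⟨v, hv, hgv⟩ := P11.cover hV (h1Zero_of_coprime _ hcop) (g := g)
      fun b hb => QuotientGroup.eq.mp (hx b (hQF hb)).symm
    have h2 : g * v = 1 := by
      refine h.fix _ fun f hf => ?_
      have h3 : (g * v)⁻¹ * φ f (g * v) ∈ V := by
        rw [← QuotientGroup.eq, QuotientGroup.mk_mul_of_mem g hv, map_mul,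
          QuotientGroup.mk_mul_of_mem _ (hV _ _ hv)]
        exact (hx f hf).symm
      have h4 := fix_part _ hVp hP hPQ (h.restrict hV).fix ⟨_, h3⟩ fun b hb => Subtype.ext (by
        have h5 := H1.mem_fixedSub.mp (inv_fixedSub φ Q f _ (H1.mem_fixedSub.mpr hgv)) b hb
        change φ b ((g * v)⁻¹ * φ f (g * v)) = (g * v)⁻¹ * φ f (g * v)
        rw [map_mul, map_inv, hgv b hb, h5])
      have h5 : (g * v)⁻¹ * φ f (g * v) = 1 := congrArg Subtype.val h4
      exact (inv_mul_eq_one.mp h5).symm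
    rw [← QuotientGroup.mk_mul_of_mem g hv, h2, QuotientGroup.mk_one]
  · haveI := h.nil
    let f : H1.fixedSub φ H →* H1.fixedSub (H1.quotAct φ V hV) H :=
      ((QuotientGroup.mk' V).comp (Subgroup.subtype _)).codRestrict _ fun x =>
        H1.mem_fixedSub.mpr fun b hb => congrArg QuotientGroup.mk (H1.mem_fixedSub.mp x.2 b hb)
    refine nilpotent_of_surjective f fun x => ?_
    obtain ⟨g, hg, hg'⟩ := h.cover hs hV (H1.mem_fixedSub.mp x.2)
    exact ⟨⟨g, H1.mem_fixedSub.mpr hg'⟩, Subtype.ext hg⟩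

end Cfsg.Agent.P11
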