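import Cfsg.Agent.P11.Solv
import Cfsg.Agent.H5.Thompson

/-! A group with a Frobenius group `FH` of automorphisms with `C(F) = 1` and `C(H)` nilpotent is
nilpotent. -/

set_option autoImplicit false

open Subgroup Cfsg Cfsg.Agent
open scoped IsMulCommutative

namespace Cfsg.Agent.P11

universe u

variable {A G : Type*} [Group A] [Group G] {F H : Subgroup A} {φ : A →* MulAut G}

theorem inv_normalizer {U : Subgroup G} (hU : Inv φ U) : Inv φ (normalizer (U : Set G)) := by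
  intro a x hx
  rw [mem_normalizer_iff] at hx ⊢
  intro y
  constructor
  · intro hy
    have := hU a _ ((hx _).mp (hU a⁻¹ y hy))
    simpa using this
  · intro hy
    have := hU a⁻¹ _ hy
    simp only [map_mul, map_inv, MulAut.inv_apply_self] at this
    have h2 := hU a _ ((hx _).mpr this)
    simpa using h2

theorem inv_map_char {N : Subgroup G} (hN : Inv φ N) (P : Subgroup N) [hP : P.Characteristic] :
    Inv φ (P.map N.subtype) := by
  rintro a _ ⟨x, hx, rfl⟩
  refine ⟨H9.restrictAut φ N hN a x, ?_, rfl⟩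
  have := hP.fixed (H9.restrictAut φ N hN a)
  rw [← this] at hx
  exact hx

theorem inv_of_char (P : Subgroup G) [hP : P.Characteristic] : Inv φ P := by
  intro a x hx
  have := hP.fixed (φ a)
  rw [← this] at hx
  exact hx

section Simple

variable [Finite A] [Finite G] (hG : ¬ Group.IsNilpotent G)
  (hsimp : ∀ N : Subgroup G, N.Normal → Inv φ N → N = ⊥ ∨ N = ⊤)
  (ihs : ∀ N : Subgroup G, Inv φ N → N ≠ ⊤ → Group.IsNilpotent N)
include hG hsimp ihs

theorem nil_normalizer {p : ℕ} [Fact p.Prime] {U : Subgroup G} (hU : Inv φ U) (hp : IsPGroup p U)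
    (h1 : U ≠ ⊥) : Group.IsNilpotent (normalizer (U : Set G)) := by
  refine ihs _ (inv_normalizer hU) fun e => ?_
  rcases hsimp U (normalizer_eq_top_iff.mp e) hU with h | h
  · exact h1 h
  · rw [h] at hp
    exact hG (hp.of_equiv topEquiv).isNilpotent

theorem eq_bot_of_odd {p : ℕ} [hp : Fact p.Prime] (hp2 : p ≠ 2) {U₀ : Subgroup G} (hU₀ : Inv φ U₀)
    (hp₀ : IsPGroup p U₀) : U₀ = ⊥ := by
  by_contra h0
  obtain ⟨U, hle, hU⟩ := Finite.exists_le_maximal
    (p := fun U : Subgroup G => Inv φ U ∧ IsPGroup p U) ⟨hU₀, hp₀⟩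
  have h1 : U ≠ ⊥ := fun e => h0 (eq_bot_iff.mpr (e ▸ hle))
  have hUi := hU.prop.1
  have hUp := hU.prop.2
  have hidx : ¬ p ∣ U.relIndex ⊤ := by
    refine H1.not_dvd_relIndex_of_normalizer le_top hUp ?_
    rw [top_inf_eq]
    haveI := nil_normalizer hG hsimp ihs hUi hUp h1
    obtain ⟨P, hP⟩ := (hUp.comap_subtype (K := normalizer (U : Set G))).exists_le_sylow
    haveI := Sylow.characteristic_of_normal P inferInstance
    have h2 : (P : Subgroup (normalizer (U : Set G))).map (Subgroup.subtype _) ≤ U :=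
      hU.le_of_ge ⟨inv_map_char (inv_normalizer hUi) _, P.isPGroup'.map _⟩ fun x hx =>
        ⟨⟨x, le_normalizer hx⟩, hP hx, rfl⟩
    have h3 : U.subgroupOf (normalizer (U : Set G)) = P :=
      le_antisymm hP fun x hx => h2 ⟨x, hx, rfl⟩
    rw [relIndex, h3]
    exact P.not_dvd_index
  have hnpc : HasNormalPComplement p (H1.sdL φ ⊤) := by
    refine H5.hasNPC_subgroup_of_forall_char hp2 (S := H1.sdL φ U) (map_mono le_top) (hUp.map _)
      (by rwa [H1.relIndex_sdL]) fun X hX hX1 hN => ?_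
    obtain ⟨X, rfl⟩ := H1.exists_eq_sdL (hX.trans (map_mono le_top))
    have hXi : Inv φ X :=
      H1.sdR_top_le_normalizer_iff.mp ((H1.sdR_top_le_normalizer_iff.mpr hUi).trans hN)
    haveI := nil_normalizer hG hsimp ihs hXi (hUp.to_le (H1.sdL_le_sdL.mp hX))
      fun e => hX1 (H1.sdL_eq_bot.mpr e)
    refine H8.hasNPC_of_le (H8.hasNPC_map (K := normalizer (X : Set G))
      (H8.hasNPC_of_isNilpotent p) SemidirectProduct.inl) ?_
    rintro _ ⟨⟨g, -, rfl⟩, hg⟩
    refine ⟨g, ?_, rfl⟩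
    have : H1.sdL φ (zpowers g) ≤ normalizer (H1.sdL φ X : Set (G ⋊[φ] A)) := by
      rw [H1.sdL, MonoidHom.map_zpowers]
      exact zpowers_le.mpr hg
    exact H1.sdL_le_normalizer_iff.mp this (mem_zpowers g)
  have hnpc' : HasNormalPComplement p G := H8.hasNPC_top_iff.mp
    (H8.hasNPC_of_mulEquiv hnpc (equivMapOfInjective _ _ SemidirectProduct.inl_injective).symm)
  rcases hsimp (pResidual p G) inferInstance (inv_of_char _) with h | h
  · exact hG ((H8.pResidual_eq_bot_iff hp.out).mp h).isNilpotent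
  · have := H8.hasNPC_iff_not_dvd_pResidual.mp hnpc'
    rw [h, card_top] at this
    exact this ((hUp.card_eq_or_dvd.resolve_left fun e => h1 (card_eq_one.mp e)).trans
      (card_subgroup_dvd_card U))

theorem eq_two_of_dvd {N : Subgroup G} (hN : Inv φ N) (h : N ≠ ⊤) {p : ℕ} (hp : p.Prime)
    (hd : p ∣ Nat.card N) : p = 2 := by
  by_contra hp2
  haveI := Fact.mk hp
  exact om_ne_bot (ihs N hN h) hd
    (eq_bot_of_odd hG hsimp ihs hp2 (om_inv hN p) (om_pgroup N p))

theorem trivial_of_odd [F.Normal] (hF : Group.IsNilpotent F) {r : ℕ} (hr : r.Prime) (hr2 : r ≠ 2)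
    (hd : r ∣ Nat.card G) {f : A} (hf : f ∈ F) {k : ℕ} (hk : orderOf f = r ^ k) : φ f = 1 := by
  haveI := Fact.mk hr
  obtain ⟨P, Q, hPn, -, -, -, hP, -, hmem, -⟩ := exists_parts F hF r
  have h1 : H1.fixedSub φ P = ⊤ := by
    by_contra e
    exact hr2 (eq_two_of_dvd hG hsimp ihs (inv_fixedSub φ P) e hr
      (((card_modEq_fixedSub φ hP).dvd_iff dvd_rfl).mp hd))
  ext g
  exact H1.mem_fixedSub.mp (h1.ge (mem_top g)) f (hmem f hf k hk)

theorem false_of_coprime [F.Normal] (hF : Group.IsNilpotent F) {B : Subgroup A} [hB : B.Normal]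
    (hBF : B ≤ F) (h1 : ∀ g, (∀ f ∈ B, φ f g = g) → g = 1)
    (h2 : 2 ∣ Nat.card G → ¬ 2 ∣ Nat.card B) : False := by
  have hcop : (Nat.card (B.map φ)).Coprime (Nat.card G) := by
    refine Nat.Coprime.symm (Nat.coprime_of_dvd fun r hr hd hd' => ?_)
    haveI := Fact.mk hr
    by_cases hr2 : r = 2
    · subst hr2
      exact h2 hd (hd'.trans (card_map_dvd B φ))
    obtain ⟨⟨_, x, hx, rfl⟩, hy⟩ := exists_prime_orderOf_dvd_card' r hd'
    rw [← orderOf_coe] at hy
    change orderOf (φ x) = r at hy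
    obtain ⟨a, b, ha, -, e, -, ⟨k, hk⟩, hc⟩ := H8.exists_pPart_pPrimePart hr x
    have := trivial_of_odd hG hsimp ihs hF hr hr2 hd (hBF (zpowers_le.mpr hx ha)) hk
    rw [e, map_mul, this, one_mul] at hy
    have h3 := orderOf_map_dvd φ b
    rw [hy] at h3
    exact hr.one_lt.ne' ((Nat.coprime_self _).mp (Nat.Coprime.coprime_dvd_left h3 hc))
  have hsol : Group.IsSolvable (B.map φ) := by
    haveI : Group.IsNilpotent B := nilpotent_of_mulEquiv (subgroupOfEquivOfLe hBF)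
    exact solvable_of_surjective (φ.subgroupMap_surjective B)
  obtain ⟨p, hp, hpd, hp2⟩ : ∃ p : ℕ, p.Prime ∧ p ∣ Nat.card G ∧ p ≠ 2 := by
    by_contra hq
    push Not at hq
    exact hG (IsPGroup.iff_card (p := 2).mpr ⟨_, Nat.eq_prime_pow_of_unique_prime_dvd
      Nat.card_pos.ne' fun hq' hd => hq _ hq' hd⟩).isNilpotent
  haveI := Fact.mk hp
  obtain ⟨P, hP⟩ := H1.aut_exists_invariant_sylow (B.map φ).subtype hcop (Or.inl hsol) p
  refine P.ne_bot_of_dvd_card hpd (eq_bot_of_odd hG hsimp ihs hp2 (fun a x hx => ?_) P.isPGroup')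
  obtain ⟨c, hc, e⟩ := H1.aut_invariant_sylow_conj (B.map φ).subtype hcop (Or.inl hsol) P
    (φ a • P) hP (by
      rintro ⟨_, b, hb, rfl⟩ _ ⟨y, hy, rfl⟩
      refine ⟨_, hP ⟨_, _, hB.conj_mem' b hb a, rfl⟩ y hy, ?_⟩
      simp)
  rw [h1 c fun f hf => hc ⟨_, f, hf, rfl⟩, one_smul] at e
  rw [← e]
  exact ⟨x, hx, rfl⟩

theorem Hyp.simple [F.Normal] (hF : Group.IsNilpotent F) (h : Hyp F H φ) : False := by
  obtain ⟨P, Q, hPn, hQn, hPF, hQF, hP, hQ, -, hPQ⟩ := exists_parts F hF 2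
  have h1 := not_dvd_card_fixedSub φ hP hPQ h.fix
  by_cases e : H1.fixedSub φ Q = ⊤
  · rw [e, card_top] at h1
    exact false_of_coprime hG hsimp ihs hF le_rfl h.fix fun h2 => absurd h2 h1
  · have h2 : H1.fixedSub φ Q = ⊥ := by
      by_contra h2
      obtain ⟨r, hr, hd⟩ := Nat.exists_prime_and_dvd fun e => h2 (card_eq_one.mp e)
      exact h1 (eq_two_of_dvd hG hsimp ihs (inv_fixedSub φ Q) e hr hd ▸ hd)
    refine false_of_coprime hG hsimp ihs hF hQF (fun g hg => ?_) fun _ h3 => ?_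
    · have : g ∈ H1.fixedSub φ Q := H1.mem_fixedSub.mpr hg
      rwa [h2] at this
    · exact (Nat.prime_two.coprime_iff_not_dvd.mp hQ.symm) h3

end Simple

theorem nilpotent_aux [Finite A] [F.Normal] (hF : Group.IsNilpotent F) (hs : SR F H) (n : ℕ) :
    ∀ (G : Type u) [Group G] [Finite G] (φ : A →* MulAut G), Nat.card G = n → Hyp F H φ →
      Group.IsNilpotent G := by
  induction n using Nat.strong_induction_on with
  | _ n ih =>
  intro G _ _ φ hn h
  by_contra hG
  have ihs : ∀ N : Subgroup G, Inv φ N → N ≠ ⊤ → Group.IsNilpotent N := fun N hN hN1 =>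
    ih _ (hn ▸ lt_of_le_of_ne (card_le_card_group N) fun e => hN1 ((card_eq_iff_eq_top N).mp e))
      N _ rfl (h.restrict hN)
  have ihq : IHQ φ := by
    intro V _ _ p _ hV hVp hV1
    refine ih _ ?_ (G ⧸ V) _ rfl (h.quot hF hs hV hVp)
    rw [← hn, card_eq_card_quotient_mul_card_subgroup V]
    exact lt_mul_of_one_lt_right Nat.card_pos ((one_lt_card_iff_ne_bot V).mpr hV1)
  by_cases hsimp : ∀ N : Subgroup G, N.Normal → Inv φ N → N = ⊥ ∨ N = ⊤
  · exact h.simple hG hsimp ihs hF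
  push Not at hsimp
  obtain ⟨N, hNn, hN, hN1, hN2⟩ := hsimp
  obtain ⟨p, hp, hd⟩ := Nat.exists_prime_and_dvd fun e => hN1 (card_eq_one.mp e)
  haveI := Fact.mk hp
  obtain ⟨V, hle, hV⟩ := Finite.exists_le_minimal
    (p := fun W : Subgroup G => W.Normal ∧ Inv φ W ∧ W ≠ ⊥) (a := om N p)
    ⟨inferInstance, om_inv hN p, om_ne_bot (ihs N hN hN2) hd⟩
  haveI := hV.prop.1
  haveI : IsMulCommutative V := ⟨⟨fun a b => Subtype.ext ((hle b.2).2.1 a (hle a.2).1)⟩⟩
  exact hG (h.solv hF hs ihq hV.prop.2.1 ((om_pgroup N p).to_le hle) hV.prop.2.2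
    fun W hW h1 h2 h3 => le_antisymm hW (hV.le_of_le ⟨h1, h2, h3⟩ hW))

theorem Hyp.nilpotent [Finite A] [Finite G] [F.Normal] (hF : Group.IsNilpotent F) (hs : SR F H)
    (h : Hyp F H φ) : Group.IsNilpotent G :=
  nilpotent_aux hF hs _ G φ rfl h

end Cfsg.Agent.P11
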