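import Cfsg.Agent.P11.Grp

/-! The case of an invariant abelian minimal normal subgroup. -/

set_option autoImplicit false

open Subgroup Cfsg Cfsg.Agent
open scoped IsMulCommutative

namespace Cfsg.Agent.P11

variable {A G : Type*} [Group A] [Group G]

/-- The elements of order dividing `p` of the centre of `V`. -/
def om (V : Subgroup G) (p : ℕ) : Subgroup G where
  carrier := {x | x ∈ V ∧ (∀ y ∈ V, Commute y x) ∧ x ^ p = 1}
  one_mem' := ⟨V.one_mem, fun y _ => Commute.one_right y, one_pow p⟩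
  mul_mem' := fun {a b} ha hb => ⟨V.mul_mem ha.1 hb.1, fun y hy => (ha.2.1 y hy).mul_right (hb.2.1 y hy),
    by rw [(hb.2.1 a ha.1).mul_pow, ha.2.2, hb.2.2, one_mul]⟩
  inv_mem' := fun {a} ha => ⟨V.inv_mem ha.1, fun y hy => (ha.2.1 y hy).inv_right,
    by rw [inv_pow, ha.2.2, inv_one]⟩

theorem mem_om {V : Subgroup G} {p : ℕ} {x : G} :
    x ∈ om V p ↔ x ∈ V ∧ (∀ y ∈ V, Commute y x) ∧ x ^ p = 1 := Iff.rfl

theorem om_le (V : Subgroup G) (p : ℕ) : om V p ≤ V := fun _ h => h.1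

instance om_comm (V : Subgroup G) (p : ℕ) : IsMulCommutative (om V p) :=
  ⟨⟨fun a b => Subtype.ext (b.2.2.1 a a.2.1)⟩⟩

theorem om_pgroup (V : Subgroup G) (p : ℕ) : IsPGroup p (om V p) :=
  fun x => ⟨1, Subtype.ext (by simpa using x.2.2.2)⟩

theorem om_inv {φ : A →* MulAut G} {V : Subgroup G} (hV : Inv φ V) (p : ℕ) : Inv φ (om V p) := by
  intro a x hx
  refine ⟨hV a x hx.1, fun y hy => ?_, by rw [← map_pow, hx.2.2, map_one]⟩
  have := (hx.2.1 _ (hV a⁻¹ y hy)).map (φ a)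
  simpa using this

theorem normal_iff_inv {V : Subgroup G} : V.Normal ↔ Inv MulAut.conj V :=
  ⟨fun h a x hx => h.conj_mem x hx a, fun h => ⟨fun x hx a => h a x hx⟩⟩

instance om_normal (V : Subgroup G) [h : V.Normal] (p : ℕ) : (om V p).Normal :=
  normal_iff_inv.mpr (om_inv (normal_iff_inv.mp h) p)

theorem om_ne_bot [Finite G] {V : Subgroup G} (hV : Group.IsNilpotent V) {p : ℕ}
    [hp : Fact p.Prime] (h : p ∣ Nat.card V) : om V p ≠ ⊥ := by
  obtain ⟨P⟩ : Nonempty (Sylow p V) := inferInstance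
  have h1 := L.inf_center_ne_bot_of_isNilpotent (P : Subgroup V) (P.ne_bot_of_dvd_card h)
  have h2 : p ∣ Nat.card ((P : Subgroup V) ⊓ center V : Subgroup V) :=
    ((P.isPGroup'.to_le inf_le_left).card_eq_or_dvd).resolve_left fun e => h1 (card_eq_one.mp e)
  obtain ⟨x, hx⟩ := exists_prime_orderOf_dvd_card' p h2
  intro e
  have h3 : ((x : V) : G) ∈ om V p := ⟨(x : V).2, fun y hy =>
    congrArg Subtype.val (mem_center_iff.mp x.2.2 ⟨y, hy⟩), by
      have := pow_orderOf_eq_one x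
      rw [hx] at this
      exact congrArg Subtype.val (congrArg Subtype.val this)⟩
  rw [e, mem_bot] at h3
  have : x = 1 := Subtype.ext (Subtype.ext h3)
  rw [this, orderOf_one] at hx
  exact hp.out.one_lt.ne hx

theorem inv_top (φ : A →* MulAut G) : Inv φ ⊤ := fun _ _ _ => trivial

theorem commute_of_nil [Finite G] {M : Subgroup G} (hM : Group.IsNilpotent M) {p : ℕ}
    [hp : Fact p.Prime] {x y : G} (hx : x ∈ M) (hy : y ∈ M) {k : ℕ} (hk : orderOf x = p ^ k)
    (hc : (orderOf y).Coprime p) : Commute x y := by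
  have h1 : (⟨x, hx⟩ : M) ∈ pCore p M := by
    refine L.mem_pCore_iff.mpr fun P => ?_
    have hk' : orderOf (⟨x, hx⟩ : M) = p ^ k := by rw [← hk, ← orderOf_coe]
    obtain ⟨R, hR⟩ := (H8.isPGroup_zpowers_of_orderOf hk').exists_le_sylow
    haveI : (R : Subgroup M).Normal := inferInstance
    haveI := Sylow.unique_of_normal R this
    rw [Subsingleton.elim P R]
    exact hR (mem_zpowers _)
  have h2 : (⟨y, hy⟩ : M) ∈ pPrimeCore p M :=
    H8.hasNPC_iff_forall_mem_pPrimeCore.mp (H8.hasNPC_of_isNilpotent p) _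
      (by rw [← orderOf_coe]; exact hc)
  exact congrArg Subtype.val (L.pPrimeCore_le_centralizer_pCore hp.out h2 _ h1)

/-- Quotients by invariant abelian subgroups of prime power order are nilpotent. -/
def IHQ (φ : A →* MulAut G) : Prop :=
  ∀ (V : Subgroup G) [V.Normal] [IsMulCommutative V] (p : ℕ) [Fact p.Prime], Inv φ V →
    IsPGroup p V → V ≠ ⊥ → Group.IsNilpotent (G ⧸ V)

variable {F H : Subgroup A} {φ : A →* MulAut G}

theorem IHQ.of_center (ih : IHQ φ) {q : ℕ} [Fact q.Prime] (h : om (⊤ : Subgroup G) q ≠ ⊥) :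
    Group.IsNilpotent G := by
  haveI := ih (om ⊤ q) q (om_inv (inv_top φ) q) (om_pgroup _ _) h
  refine Subgroup.isNilpotent_of_ker_le_center (QuotientGroup.mk' (om ⊤ q)) ?_
  rw [QuotientGroup.ker_mk']
  exact fun x hx => mem_center_iff.mpr fun y => hx.2.1 y trivial

theorem coprime_of_pgroup {M : Type*} [Group M] [Finite M] {p : ℕ} [Fact p.Prime]
    (h : IsPGroup p M) {n : ℕ} (hn : n.Coprime p) : (Nat.card M).Coprime n := by
  obtain ⟨k, hk⟩ := IsPGroup.iff_card.mp h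
  rw [hk]
  exact hn.symm.pow_left k

theorem Hyp.solv [Finite A] [Finite G] [F.Normal] (hF : Group.IsNilpotent F) (h : Hyp F H φ)
    (hs : SR F H) (ih : IHQ φ) {V : Subgroup G} [V.Normal] [IsMulCommutative V] (hV : Inv φ V)
    {p : ℕ} [hp : Fact p.Prime] (hVp : IsPGroup p V) (hV1 : V ≠ ⊥)
    (hmin : ∀ W : Subgroup G, W ≤ V → W.Normal → Inv φ W → W ≠ ⊥ → W = V) :
    Group.IsNilpotent G := by
  have hn := ih V p hV hVp hV1
  by_cases hq : ∀ q : ℕ, q.Prime → q ∣ Nat.card (G ⧸ V) → q = p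
  · have h1 : IsPGroup p (G ⧸ V) := IsPGroup.iff_card.mpr ⟨_, Nat.eq_prime_pow_of_unique_prime_dvd
      Nat.card_pos.ne' fun hq' hd => hq _ hq' hd⟩
    have h2 := (h1.to_subgroup ⊤).comap_of_ker_isPGroup (QuotientGroup.mk' V)
      (by rwa [QuotientGroup.ker_mk'])
    rw [comap_top] at h2
    exact (h2.of_equiv topEquiv).isNilpotent
  push Not at hq
  obtain ⟨q, hq, hqd, hqp⟩ := hq
  haveI := Fact.mk hq
  have hqp' : q.Coprime p := (Nat.coprime_primes hq hp.out).mpr hqp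
  let U : Subgroup (G ⧸ V) := om ⊤ q
  have hU1 : U ≠ ⊥ := om_ne_bot (nilpotent_of_mulEquiv topEquiv.symm) (by rwa [card_top])
  have hU : Inv (H1.quotAct φ V hV) U := om_inv (inv_top _) q
  let σ : U →* MulAut V := (QuotientGroup.lift V MulAut.conjNormal fun x hx => by
    ext y
    have : x * y = y * x := congrArg Subtype.val (mul_comm (⟨x, hx⟩ : V) y)
    simp [this]).comp U.subtype
  have hσ : ∀ (g : G) (hg : (g : G ⧸ V) ∈ U) (v : V), (σ ⟨g, hg⟩ v : G) = g * v * g⁻¹ :=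
    fun g hg v => rfl
  obtain ⟨P₁, Q₁, -, hQn₁, -, hQF₁, hP₁, hQ₁, -, hPQ₁⟩ := exists_parts F hF p
  obtain ⟨P₂, Q₂, -, hQn₂, -, hQF₂, hP₂, hQ₂, -, hPQ₂⟩ := exists_parts F hF q
  haveI : Nontrivial V := (nontrivial_iff_ne_bot V).mpr hV1
  have hVc : ∀ x ∈ V, ∀ y ∈ V, Commute x y := fun x hx y hy =>
    congrArg Subtype.val (mul_comm (⟨x, hx⟩ : V) ⟨y, hy⟩)
  obtain ⟨v, hv1, hv⟩ := exists_fixed (α := H9.restrictAut φ V hV)
    (β := H9.restrictAut _ U hU) (σ := σ) (F₁ := Q₁) (F₂ := Q₂) (H := H)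
    (by
      rintro a ⟨u, hu⟩ v
      obtain ⟨g, rfl⟩ := QuotientGroup.mk_surjective u
      ext
      change φ a (g * v * g⁻¹) = φ a g * φ a v * (φ a g)⁻¹
      simp)
    (hs.mono hQF₁ le_rfl fun x _ f hf => hQn₁.conj_mem f hf x)
    (hs.mono hQF₂ le_rfl fun x _ f hf => hQn₂.conj_mem f hf x)
    (coprime_of_pgroup hVp hQ₁) (coprime_of_pgroup (om_pgroup _ _) hQ₂)
    (coprime_of_pgroup hVp (coprime_of_pgroup (om_pgroup _ _) hqp'.symm))
    (fix_part _ hVp hP₁ hPQ₁ (h.restrict hV).fix)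
    (fix_part _ (om_pgroup _ _) hP₂ hPQ₂ ((h.quot hF hs hV hVp).restrict hU).fix)
    (by
      rintro ⟨u, hu⟩ hfix v hv
      obtain ⟨g, rfl, hg⟩ := h.cover hs hV (x := u) fun b hb => congrArg Subtype.val (hfix b hb)
      have hgH : g ∈ H1.fixedSub φ H := H1.mem_fixedSub.mpr hg
      have hvH : (v : G) ∈ H1.fixedSub φ H :=
        H1.mem_fixedSub.mpr fun b hb => congrArg Subtype.val (hv b hb)
      obtain ⟨a, b, ha, hb, e, -, ⟨k, hk⟩, hc⟩ := H8.exists_pPart_pPrimePart hp.out g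
      have haV : a ∈ V := by
        refine H8.mem_of_pow_mem_of_coprime (n := q) (by rw [hk]; exact hqp'.symm.pow_left k) ?_
        obtain ⟨n, rfl⟩ := ha
        have : g ^ q ∈ V := by
          rw [← QuotientGroup.eq_one_iff, QuotientGroup.mk_pow]
          exact hu.2.2
        have h2 := V.zpow_mem this n
        rwa [← zpow_natCast, ← zpow_mul, mul_comm, zpow_mul, zpow_natCast] at h2
      obtain ⟨j, hj⟩ := H8.exists_orderOf_eq_pow_of_mem hVp v.2
      have h1 := commute_of_nil h.nil hvH (zpowers_le.mpr hgH hb) hj hc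
      have h2 : Commute g v := e ▸ (hVc a haV v v.2).mul_left h1.symm
      ext
      rw [hσ, h2.eq, mul_inv_cancel_right])
  let W : Subgroup G := V ⊓ centralizer (U.comap (QuotientGroup.mk' V) : Set G)
  have hW : W = V := by
    refine hmin W inf_le_left inferInstance ?_ fun e => hv1 ?_
    · intro a x hx
      refine ⟨hV a x hx.1, fun y hy => ?_⟩
      have := congrArg (φ a) (hx.2 (φ a⁻¹ y) (hU a⁻¹ _ hy))
      simpa using this
    · have : (v : G) ∈ W := ⟨v.2, fun g hg => by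
        have := (hσ g hg v).symm.trans (congrArg Subtype.val (hv ⟨g, hg⟩))
        exact mul_inv_eq_iff_eq_mul.mp this⟩
      rw [e] at this
      exact Subtype.ext this
  obtain ⟨⟨u, hu⟩, hu1⟩ := (ne_bot_iff_exists_ne_one).mp hU1
  obtain ⟨g, rfl⟩ := QuotientGroup.mk_surjective u
  have hgq : g ^ q ∈ V := by
    rw [← QuotientGroup.eq_one_iff, QuotientGroup.mk_pow]
    exact hu.2.2
  have hcop := coprime_of_pgroup hVp hqp'
  obtain ⟨w, hw⟩ := (powCoprime hcop).surjective ⟨_, hgq⟩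
  have hw' : (w : G) ^ q = g ^ q := congrArg Subtype.val hw
  have hgV : ∀ y ∈ V, Commute g y := fun y hy => (hW.ge hy).2 g hu
  have hxV : ∀ y ∈ V, Commute (g * (w : G)⁻¹) y := fun y hy =>
    (hgV y hy).mul_left (hVc _ (V.inv_mem w.2) y hy)
  have hxq : (g * (w : G)⁻¹) ^ q = 1 := by
    rw [(hgV _ (V.inv_mem w.2)).mul_pow, inv_pow, hw', mul_inv_cancel]
  have hxm : ((g * (w : G)⁻¹ : G) : G ⧸ V) = g := QuotientGroup.mk_mul_of_mem g (V.inv_mem w.2)
  refine ih.of_center (q := q) fun e => hu1 ?_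
  have hx : g * (w : G)⁻¹ ∈ om (⊤ : Subgroup G) q := by
    refine ⟨trivial, fun y _ => ?_, hxq⟩
    generalize g * (w : G)⁻¹ = x at hxV hxq hxm
    have h1 : x⁻¹ * (y * x * y⁻¹) ∈ V := by
      rw [← QuotientGroup.eq, QuotientGroup.mk_mul, QuotientGroup.mk_mul, QuotientGroup.mk_inv, hxm,
        (hu.2.1 y trivial).eq, mul_inv_cancel_right]
    have h2 : (⟨_, h1⟩ : V) ^ q = 1 := by
      ext
      have h3 := (hxV _ h1).mul_pow q
      rw [mul_inv_cancel_left, conj_pow, hxq] at h3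
      simpa using h3.symm
    have h3 : x⁻¹ * (y * x * y⁻¹) = 1 := congrArg Subtype.val (eq_one_of_pow_coprime hcop h2)
    rw [inv_mul_eq_one, eq_mul_inv_iff_mul_eq] at h3
    exact h3.symm
  rw [e, mem_bot] at hx
  ext
  change (g : G ⧸ V) = 1
  rw [← hxm, hx, QuotientGroup.mk_one]

end Cfsg.Agent.P11
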